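import Mathlib

/-!
Sign sums of the squaring map on a group with central squares of order at most two.
-/

set_option autoImplicit false
set_option linter.unusedSectionVars false

namespace Cfsg.Agent.TwoGroupCount

open Subgroup

variable {G : Type*} [Group G]

/-- A central elementary subgroup receiving all squares. -/
structure SquareTarget (W : Subgroup G) : Prop where
  central : W ≤ center G
  square_mem : ∀ x : G, x * x ∈ W
  elementary : ∀ w ∈ W, w * w = 1

variable {W : Subgroup G}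

theorem SquareTarget.commutator_mem (hW : SquareTarget W) (u v : G) : u * v * u⁻¹ * v⁻¹ ∈ W := by
  rw [show u * v * u⁻¹ * v⁻¹ = (u * v) * (u * v) * ((v⁻¹ * u⁻¹ * v) * (v⁻¹ * u⁻¹ * v)) * (v⁻¹ * v⁻¹) by group]
  exact W.mul_mem (W.mul_mem (hW.square_mem _) (hW.square_mem _)) (hW.square_mem _)

/-- The square of an element, in the target. -/
def sqW (hW : SquareTarget W) (x : G) : W := ⟨x * x, hW.square_mem x⟩

/-- The commutator, in the target. -/
def comW (hW : SquareTarget W) (u v : G) : W := ⟨u * v * u⁻¹ * v⁻¹, hW.commutator_mem u v⟩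

theorem sqW_mul (hW : SquareTarget W) (v u : G) : sqW hW (v * u) = comW hW u v * (sqW hW v * sqW hW u) := by
  refine Subtype.ext ?_
  show v * u * (v * u) = (u * v * u⁻¹ * v⁻¹) * ((v * v) * (u * u))
  have hc := mem_center_iff.mp (hW.central (hW.commutator_mem u v)) v
  calc v * u * (v * u) = v * ((u * v * u⁻¹ * v⁻¹) * v * u) * u := by group
    _ = (v * (u * v * u⁻¹ * v⁻¹)) * v * u * u := by simp only [mul_assoc]
    _ = ((u * v * u⁻¹ * v⁻¹) * v) * v * u * u := by rw [hc]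
    _ = _ := by simp only [mul_assoc]

theorem comW_mul_right (hW : SquareTarget W) (u v v' : G) :
    comW hW u (v * v') = comW hW u v * comW hW u v' := by
  refine Subtype.ext ?_
  show u * (v * v') * u⁻¹ * (v * v')⁻¹ = (u * v * u⁻¹ * v⁻¹) * (u * v' * u⁻¹ * v'⁻¹)
  have hc := mem_center_iff.mp (hW.central (hW.commutator_mem u v')) v
  calc u * (v * v') * u⁻¹ * (v * v')⁻¹ = (u * v * u⁻¹) * (u * v' * u⁻¹ * v'⁻¹) * v⁻¹ := by group
    _ = (u * v * u⁻¹ * v⁻¹) * (v * (u * v' * u⁻¹ * v'⁻¹)) * v⁻¹ := by group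
    _ = (u * v * u⁻¹ * v⁻¹) * ((u * v' * u⁻¹ * v'⁻¹) * v) * v⁻¹ := by rw [hc]
    _ = _ := by group

theorem comW_mul_left (hW : SquareTarget W) (u u' v : G) :
    comW hW (u * u') v = comW hW u' v * comW hW u v := by
  refine Subtype.ext ?_
  show u * u' * v * (u * u')⁻¹ * v⁻¹ = (u' * v * u'⁻¹ * v⁻¹) * (u * v * u⁻¹ * v⁻¹)
  have hc := mem_center_iff.mp (hW.central (hW.commutator_mem u' v)) u
  calc u * u' * v * (u * u')⁻¹ * v⁻¹ = (u * (u' * v * u'⁻¹ * v⁻¹)) * v * u⁻¹ * v⁻¹ := by group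
    _ = ((u' * v * u'⁻¹ * v⁻¹) * u) * v * u⁻¹ * v⁻¹ := by rw [hc]
    _ = _ := by group

/-- The radical of the commutator form of a character. -/
def rad (hW : SquareTarget W) (χ : W →* ℤˣ) : Subgroup G where
  carrier := {u | ∀ v, χ (comW hW u v) = 1}
  one_mem' v := by
    rw [show comW hW 1 v = 1 from Subtype.ext (by simp [comW]), map_one]
  mul_mem' {u u'} hu hu' v := by rw [comW_mul_left, map_mul, hu v, hu' v, one_mul]
  inv_mem' {u} hu v := by
    have h := comW_mul_left hW u⁻¹ u v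
    rw [inv_mul_cancel, show comW hW 1 v = 1 from Subtype.ext (by simp [comW])] at h
    have h' := congrArg χ h
    rw [map_one, map_mul, hu v, one_mul] at h'
    exact h'.symm

theorem center_le_rad (hW : SquareTarget W) (χ : W →* ℤˣ) : center G ≤ rad hW χ := fun u hu v => by
  rw [show comW hW u v = 1 from Subtype.ext (by
    show u * v * u⁻¹ * v⁻¹ = 1
    rw [← mem_center_iff.mp hu v, mul_inv_cancel_right, mul_inv_cancel]), map_one]

variable [Fintype G]

/-- The sign sum. -/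
def gauss (hW : SquareTarget W) (χ : W →* ℤˣ) : ℤ := ∑ x : G, (χ (sqW hW x) : ℤ)

theorem gauss_sq (hW : SquareTarget W) (χ : W →* ℤˣ) :
    gauss hW χ = 0 ∨ (gauss hW χ ^ 2 = (Nat.card G : ℤ) * Nat.card (rad hW χ) ∧
      ∀ u ∈ rad hW χ, χ (sqW hW u) = 1) := by
  classical
  have hinner : ∀ u, ∑ v : G, (χ (comW hW u v) : ℤ) = if u ∈ rad hW χ then (Nat.card G : ℤ) else 0 := by
    intro u
    by_cases hu : u ∈ rad hW χ
    · rw [if_pos hu, Finset.sum_congr rfl fun v _ => by rw [hu v], Units.val_one, Finset.sum_const,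
        Finset.card_univ, nsmul_one, Nat.card_eq_fintype_card]
    · rw [if_neg hu]
      let f : G →* ℤ := (Units.coeHom ℤ).comp
        (χ.comp (MonoidHom.mk' (fun v => comW hW u v) (comW_mul_right hW u)))
      have hne : f ≠ 1 := fun h => hu fun v => Units.ext (DFunLike.congr_fun h v)
      exact sum_hom_units_eq_zero f hne
  have hsq : gauss hW χ ^ 2 = ∑ u : G, if u ∈ rad hW χ then (χ (sqW hW u) : ℤ) * Nat.card G else 0 := by
    rw [pow_two, gauss, Finset.sum_mul_sum]
    calc ∑ v : G, ∑ w : G, (χ (sqW hW v) : ℤ) * (χ (sqW hW w) : ℤ)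
        = ∑ v : G, ∑ u : G, (χ (sqW hW v) : ℤ) * (χ (sqW hW (v * u)) : ℤ) :=
          Finset.sum_congr rfl fun v _ => (Fintype.sum_equiv (Equiv.mulLeft v) _ _ fun u => rfl).symm
      _ = ∑ u : G, ∑ v : G, (χ (sqW hW v) : ℤ) * (χ (sqW hW (v * u)) : ℤ) := Finset.sum_comm
      _ = _ := by
        refine Finset.sum_congr rfl fun u _ => ?_
        have h1 : ∀ v : G, (χ (sqW hW v) : ℤ) * (χ (sqW hW (v * u)) : ℤ) =
            (χ (sqW hW u) : ℤ) * (χ (comW hW u v) : ℤ) := by
          intro v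
          rw [sqW_mul, map_mul, map_mul, ← Units.val_mul, ← Units.val_mul]
          congr 1
          rw [← mul_assoc, mul_comm (χ (sqW hW v)), mul_assoc, ← mul_assoc (χ (sqW hW v)),
            Int.units_mul_self, one_mul, mul_comm]
        rw [Finset.sum_congr rfl fun v _ => h1 v, ← Finset.mul_sum, hinner u]
        split <;> simp
  by_cases htriv : ∀ u ∈ rad hW χ, χ (sqW hW u) = 1
  · right
    refine ⟨?_, htriv⟩
    rw [hsq, ← Finset.sum_filter, Finset.sum_congr rfl fun u hu => by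
      rw [htriv u (Finset.mem_filter.mp hu).2, Units.val_one, one_mul], Finset.sum_const, nsmul_eq_mul]
    rw [mul_comm (Nat.card G : ℤ)]
    congr 1
    rw [Nat.card_eq_fintype_card, Fintype.card_subtype]
  · left
    push Not at htriv
    obtain ⟨u₀, hu₀, hne⟩ := htriv
    let f : rad hW χ →* ℤˣ := MonoidHom.mk' (fun u => χ (sqW hW u)) fun a b => by
      rw [Subgroup.coe_mul, sqW_mul, map_mul, b.2 a, one_mul, map_mul]
    have hf : (Units.coeHom ℤ).comp f ≠ 1 := fun h => hne (Units.ext (DFunLike.congr_fun h (⟨u₀, hu₀⟩ : rad hW χ) :))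
    have h0 := sum_hom_units_eq_zero _ hf
    rw [← sq_eq_zero_iff, hsq, ← Finset.sum_filter, Finset.sum_subtype (p := (· ∈ rad hW χ)) _ (fun u => by simp),
      ← Finset.sum_mul]
    exact mul_eq_zero_of_left h0 _

theorem exists_sign {W' : Type*} [CommGroup W'] [Finite W'] (hW' : ∀ w : W', w ^ 2 = 1) {w : W'} (hw : w ≠ 1) :
    ∃ χ : W' →* ℤˣ, χ w ≠ 1 := by
  haveI : HasEnoughRootsOfUnity ℤ 2 :=
    ⟨⟨-1, IsPrimitiveRoot.neg_one 0 (by norm_num)⟩, rootsOfUnity.isCyclic ℤ 2⟩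
  haveI : HasEnoughRootsOfUnity ℤ (Monoid.exponent W') :=
    HasEnoughRootsOfUnity.of_dvd ℤ (Monoid.exponent_dvd_of_forall_pow_eq_one hW')
  exact CommGroup.exists_apply_ne_one_of_hasEnoughRootsOfUnity W' ℤ hw

/-- All sign sums are divisible by the same power of two. -/
theorem pow_dvd_gauss (hG : IsPGroup 2 G) (hW : SquareTarget W) (χ : W →* ℤˣ) {g z : ℕ}
    (hg : Nat.card G = 2 ^ g) (hz : Nat.card (center G) = 2 ^ z) {m : ℕ} (hm : 2 * m ≤ g + z + 1) :
    (2 : ℤ) ^ m ∣ gauss hW χ := by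
  rcases gauss_sq hW χ with h | ⟨h, -⟩
  · rw [h]; exact dvd_zero _
  obtain ⟨t, ht⟩ := IsPGroup.iff_card.mp (hG.to_subgroup (rad hW χ))
  have hzt : z ≤ t := (Nat.pow_le_pow_iff_right (by norm_num)).mp (hz ▸ ht ▸ card_le_of_le (center_le_rad hW χ))
  rw [hg, ht] at h
  have h1 : (gauss hW χ).natAbs ^ 2 = 2 ^ (g + t) := by
    have := congrArg Int.natAbs h
    rw [Int.natAbs_pow] at this
    rw [this, pow_add]
    simp [Int.natAbs_mul]
  obtain ⟨s, -, hs⟩ := (Nat.dvd_prime_pow Nat.prime_two).mp (Dvd.intro _ ((pow_two _).symm.trans h1))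
  rw [hs, ← pow_mul] at h1
  have h2 := Nat.pow_right_injective le_rfl h1
  rw [← Int.natAbs_dvd_natAbs, hs, Int.natAbs_pow]
  exact pow_dvd_pow 2 (by omega)

/-- The sum of all sign sums counts the zeros of the squaring map. -/
theorem sum_gauss (hW : SquareTarget W) :
    ∃ T : Finset (W →* ℤˣ), (∀ x : G, x * x ≠ 1 → ∑ χ ∈ T, (χ (sqW hW x) : ℤ) = 0) ∧
      T.card = Nat.card W := by
  classical
  letI : CommGroup W := { (inferInstance : Group W) with
    mul_comm := fun a b => Subtype.ext (mem_center_iff.mp (hW.central b.2) a) }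
  have hexp : ∀ w : W, w ^ 2 = 1 := fun w => Subtype.ext (by rw [pow_two]; exact hW.elementary _ w.2)
  haveI : HasEnoughRootsOfUnity ℤ 2 :=
    ⟨⟨-1, IsPrimitiveRoot.neg_one 0 (by norm_num)⟩, rootsOfUnity.isCyclic ℤ 2⟩
  haveI : HasEnoughRootsOfUnity ℤ (Monoid.exponent W) :=
    HasEnoughRootsOfUnity.of_dvd ℤ (Monoid.exponent_dvd_of_forall_pow_eq_one hexp)
  haveI : Finite (W →* ℤˣ) := Finite.of_injective _ DFunLike.coe_injective
  haveI := Fintype.ofFinite (W →* ℤˣ)
  refine ⟨Finset.univ, fun x hx => ?_, ?_⟩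
  · obtain ⟨χ₀, hχ₀⟩ := exists_sign hexp (w := sqW hW x) fun h => hx (congrArg Subtype.val h)
    let f : (W →* ℤˣ) →* ℤ := (Units.coeHom ℤ).comp (MonoidHom.eval (sqW hW x))
    exact sum_hom_units_eq_zero f fun h => hχ₀ (Units.ext (DFunLike.congr_fun h χ₀))
  · rw [Finset.card_univ, ← Nat.card_eq_fintype_card]
    exact CommGroup.card_monoidHom_of_hasEnoughRootsOfUnity W ℤ

/-- The number of zeros of the squaring map, times the order of the target, is highly divisible. -/
theorem two_pow_le (hG : IsPGroup 2 G) (hW : SquareTarget W) (N : Subgroup G) (hN : ∀ x : G, x ∈ N ↔ x * x = 1) :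
    Nat.card G * Nat.card (center G) ≤ (Nat.card N * Nat.card W) ^ 2 := by
  classical
  obtain ⟨g, hg⟩ := IsPGroup.iff_card.mp hG
  obtain ⟨z, hz⟩ := IsPGroup.iff_card.mp (hG.to_subgroup (center G))
  obtain ⟨n, hn⟩ := IsPGroup.iff_card.mp (hG.to_subgroup N)
  obtain ⟨w, hw⟩ := IsPGroup.iff_card.mp (hG.to_subgroup W)
  obtain ⟨T, hT, hTc⟩ := sum_gauss hW
  set m := (g + z + 1) / 2
  have h1 : ∑ χ ∈ T, gauss hW χ = (Nat.card N * Nat.card W : ℕ) := by
    simp only [gauss]
    rw [Finset.sum_comm, ← Finset.sum_filter_add_sum_filter_not Finset.univ (fun x : G => x * x = 1)]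
    rw [Finset.sum_eq_zero (s := Finset.univ.filter fun x : G => ¬ x * x = 1) fun x hx =>
        hT x (Finset.mem_filter.mp hx).2, add_zero,
      Finset.sum_congr rfl fun x hx => (show ∑ χ ∈ T, ((χ (sqW hW x) : ℤˣ) : ℤ) = (T.card : ℤ) by
        rw [show sqW hW x = 1 from Subtype.ext (Finset.mem_filter.mp hx).2]
        simp),
      Finset.sum_const, hTc, nsmul_eq_mul]
    push_cast
    congr 2
    rw [Nat.card_eq_fintype_card, Fintype.card_subtype]
    simp only [hN]
  have h2 : (2 : ℤ) ^ m ∣ ((Nat.card N * Nat.card W : ℕ) : ℤ) :=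
    h1 ▸ Finset.dvd_sum fun χ _ => pow_dvd_gauss hG hW χ hg hz (by omega)
  have h3 : 2 ^ m ∣ Nat.card N * Nat.card W := by
    rw [← Int.natCast_dvd_natCast]; exact_mod_cast h2
  rw [hn, hw, ← pow_add, Nat.pow_dvd_pow_iff_le_right (by norm_num)] at h3
  rw [hg, hz, hn, hw, ← pow_add, ← pow_add, ← pow_mul]
  exact Nat.pow_le_pow_right (by norm_num) (by omega)

end Cfsg.Agent.TwoGroupCount
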